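/-
Certificate data of a coset enumeration.
-/
import Cfsg.Agent.Lib.CosetEnum.Sub
import Cfsg.Agent.Lib.CosetEnum.Fi23B.Data
import Cfsg.Agent.Lib.CosetEnum.Fi23B.Facts0
import Cfsg.Agent.Lib.CosetEnum.Fi23B.Facts1
import Cfsg.Agent.Lib.CosetEnum.Fi23B.Facts2
import Cfsg.Agent.Lib.CosetEnum.Fi23B.Facts3
import Cfsg.Agent.Lib.CosetEnum.Fi23B.Facts4
import Cfsg.Agent.Lib.CosetEnum.Fi23B.Facts5
import Cfsg.Agent.Lib.CosetEnum.Fi23B.Facts6
import Cfsg.Agent.Lib.CosetEnum.Fi23B.Rows0
import Cfsg.Agent.Lib.CosetEnum.Fi23B.Rows1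

set_option autoImplicit false
set_option maxRecDepth 1000000

namespace CfsgLib.CosetEnum.Fi23B

open CfsgLib.CosetEnum

theorem holds {Ω : Type} (base : Ω) (s : ℕ → Ω → Ω) (hinv : ∀ x v, s x (s x v) = v) (hk : ∀ v, s data.k v = v)
    (hwh : ∀ w < data.nh, run s (wordOf (data.words.get w)) base = base)
    (hwr : ∀ w, data.nh ≤ w → w < data.nw → ∀ v, run s (wordOf (data.words.get w)) v = v) :
    ∀ i < 26497, data.Holds base s i := by
  have h0 : ∀ i < 0, data.Holds base s i := fun i hi => absurd hi (Nat.not_lt_zero i)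
  have h1 : ∀ i < 4000, data.Holds base s i := fun i hi =>
    Data.okChunk_sound hinv hk hwh hwr just0 0 just0_ok h0 i (by rw [just0_len]; exact hi)
  have h2 : ∀ i < 8000, data.Holds base s i := fun i hi =>
    Data.okChunk_sound hinv hk hwh hwr just1 4000 just1_ok h1 i (by rw [just1_len]; exact hi)
  have h3 : ∀ i < 12000, data.Holds base s i := fun i hi =>
    Data.okChunk_sound hinv hk hwh hwr just2 8000 just2_ok h2 i (by rw [just2_len]; exact hi)
  have h4 : ∀ i < 16000, data.Holds base s i := fun i hi =>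
    Data.okChunk_sound hinv hk hwh hwr just3 12000 just3_ok h3 i (by rw [just3_len]; exact hi)
  have h5 : ∀ i < 20000, data.Holds base s i := fun i hi =>
    Data.okChunk_sound hinv hk hwh hwr just4 16000 just4_ok h4 i (by rw [just4_len]; exact hi)
  have h6 : ∀ i < 24000, data.Holds base s i := fun i hi =>
    Data.okChunk_sound hinv hk hwh hwr just5 20000 just5_ok h5 i (by rw [just5_len]; exact hi)
  have h7 : ∀ i < 26497, data.Holds base s i := fun i hi =>
    Data.okChunk_sound hinv hk hwh hwr just6 24000 just6_ok h6 i (by rw [just6_len]; exact hi)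
  exact h7

theorem rows {Ω : Type} (base : Ω) (s : ℕ → Ω → Ω) (hinv : ∀ x v, s x (s x v) = v) (hk : ∀ v, s data.k v = v)
    (hwh : ∀ w < data.nh, run s (wordOf (data.words.get w)) base = base)
    (hwr : ∀ w, data.nh ≤ w → w < data.nw → ∀ v, run s (wordOf (data.words.get w)) v = v) :
    ∀ d < 3159, RowOK data table base s d := by
  have hf := holds base s hinv hk hwh hwr
  have hk16 : data.k < 16 := show 8 < 16 by decide
  have h0 : ∀ d < 0, RowOK data table base s d := fun d hd => absurd hd (Nat.not_lt_zero d)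
  have h1 : ∀ d < 2000, RowOK data table base s d := fun d hd =>
    okRows_sound hinv hk hk16 hf rows0 0 rows0_ok h0 d (by rw [rows0_len]; exact hd)
  have h2 : ∀ d < 3159, RowOK data table base s d := fun d hd =>
    okRows_sound hinv hk hk16 hf rows1 2000 rows1_ok h1 d (by rw [rows1_len]; exact hd)
  exact h2

/-- The certified bound. -/
noncomputable def sheet : Sheet where
  D := data
  T := table
  rels := rels
  hw := hw
  rots := rots
  nh_le := show 7 ≤ 81 by decide
  hn := show 0 < 3159 by decide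
  hrep := by decide +kernel
  words_ok := by decide +kernel
  facts_ok := rows

end CfsgLib.CosetEnum.Fi23B
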